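import Groth.Agent.MonoLocusLib.Alg
import Groth.Agent.TrivLocusLib.Global

/-!
The locus where a homomorphism from a group of multiplicative type is a monomorphism on the fibre is open.
-/

set_option autoImplicit false

noncomputable section

universe u

open CategoryTheory CategoryTheory.Limits MonoidalCategory CartesianMonoidalCategory AlgebraicGeometry CoactBr
open scoped MonObj TensorProduct

namespace Groth.Agent.MonoLocus

open Groth.Agent.FreeAct (DA chr)
open Groth.Agent.TrivLocus (Triv)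

attribute [local instance] CoactBr.braidedAlgSpecOf

variable {S : Scheme.{u}} {H G : Over S} [GrpObj H] [GrpObj G]

/-- The kernel scheme. -/
def kob (u : H ⟶ G) : Over S := Over.mk (pullback.fst u.left (η[G] : 𝟙_ (Over S) ⟶ G).left ≫ H.hom)

/-- The inclusion of the kernel scheme. -/
def kin (u : H ⟶ G) : kob u ⟶ H := Over.homMk (pullback.fst u.left (η[G] : 𝟙_ (Over S) ⟶ G).left) rfl

theorem comp_eq_one_iff (u : H ⟶ G) {Y : Over S} (h : Y ⟶ H) : h ≫ u = 1 ↔ ∃ y : Y ⟶ kob u, y ≫ kin u = h := by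
  have hη : (η[G] : 𝟙_ (Over S) ⟶ G).left ≫ G.hom = 𝟙 S := Over.w _
  have hone : (1 : Y ⟶ G) = toUnit Y ≫ η[G] := rfl
  have ht : (toUnit Y).left = Y.hom := by
    have : (toUnit Y).left ≫ (𝟙_ (Over S)).hom = Y.hom := Over.w _
    exact (Category.comp_id _).symm.trans this
  constructor
  · intro he
    rw [hone] at he
    have he' : h.left ≫ u.left = Y.hom ≫ (η[G] : 𝟙_ (Over S) ⟶ G).left := by
      have := congrArg CommaMorphism.left he
      rw [← ht]
      exact this
    refine ⟨Over.homMk (pullback.lift h.left Y.hom he') ?_, Over.OverMorphism.ext (pullback.lift_fst _ _ _)⟩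
    show pullback.lift h.left Y.hom he' ≫ pullback.fst _ _ ≫ H.hom = Y.hom
    rw [pullback.lift_fst_assoc, Over.w]
  · rintro ⟨y, rfl⟩
    rw [hone]
    refine Over.OverMorphism.ext ?_
    show (y.left ≫ pullback.fst _ _) ≫ u.left = (toUnit Y).left ≫ _
    have key : ∀ l : Y.left ⟶ pullback u.left (η[G] : 𝟙_ (Over S) ⟶ G).left,
        (l ≫ pullback.fst _ _) ≫ u.left =
          (l ≫ pullback.fst _ _ ≫ H.hom) ≫ (η[G] : 𝟙_ (Over S) ⟶ G).left := fun l => by
      have h2 : pullback.fst u.left (η[G] : 𝟙_ (Over S) ⟶ G).left ≫ H.hom =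
          pullback.snd u.left (η[G] : 𝟙_ (Over S) ⟶ G).left := by
        rw [← Over.w u, ← Category.assoc, pullback.condition, Category.assoc, hη]
        exact Category.comp_id _
      rw [h2, Category.assoc, Category.assoc, pullback.condition]
    refine (key y.left).trans ?_
    rw [ht]
    exact congrArg (· ≫ (η[G] : 𝟙_ (Over S) ⟶ G).left) (Over.w y)

/-- The kernel is trivial over `κ`. -/
def KTriv (u : H ⟶ G) {T : Scheme.{u}} (κ : T ⟶ S) : Prop := Triv (kin u) κ

theorem ktriv_iff (u : H ⟶ G) {T : Scheme.{u}} (κ : T ⟶ S) :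
    KTriv u κ ↔ ∀ (Y : Over S) (q : Y.left ⟶ T), q ≫ κ = Y.hom → ∀ h : Y ⟶ H, h ≫ u = 1 → h = 1 := by
  constructor
  · intro hk Y q hq h he
    obtain ⟨y, rfl⟩ := (comp_eq_one_iff u h).1 he
    exact hk Y q hq y
  · intro hk Y q hq y
    exact hk Y q hq _ ((comp_eq_one_iff u _).2 ⟨y, rfl⟩)

theorem mono_map_iff (u : H ⟶ G) [IsMonHom u] {T : Scheme.{u}} (p : T ⟶ S) :
    Mono ((Over.pullback p).map u).left ↔ KTriv u p := by
  let adj := Over.mapPullbackAdj p
  have hone : ∀ (Z : Over S) [GrpObj Z] (Y : Over T), adj.homEquiv Y Z 1 = 1 := fun Z _ Y => by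
    have h := AlgGrp.Action.homEquiv_mul p (1 : (Over.map p).obj Y ⟶ Z) 1
    rw [mul_one] at h
    exact mul_eq_left.1 h.symm
  haveI : IsMonHom (M := Red.bc p H) (N := Red.bc p G) ((Over.pullback p).map u) := DiagRep.isMonHom_bc_map p u
  let v : Red.bc p H ⟶ Red.bc p G := (Over.pullback p).map u
  have hcorr : ∀ {Y : Over T} (a : (Over.map p).obj Y ⟶ H), adj.homEquiv Y H a ≫ v = 1 ↔ a ≫ u = 1 := fun a => by
    rw [← (adj.homEquiv _ G).injective.eq_iff (b := 1), hone G, adj.homEquiv_naturality_right]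
  rw [ktriv_iff]
  constructor
  · intro hm Y q hq h he
    haveI : Mono v := Over.mono_of_mono_left v
    let Y' : Over T := Over.mk q
    let ε : (Over.map p).obj Y' ⟶ Y := Over.homMk (𝟙 Y.left) (by
      show 𝟙 Y.left ≫ Y.hom = q ≫ p
      rw [Category.id_comp, hq])
    haveI : IsIso ((Over.forget S).map ε) := inferInstanceAs (IsIso (𝟙 Y.left))
    haveI : IsIso ε := isIso_of_reflects_iso ε (Over.forget S)
    rw [← cancel_epi ε, MonObj.comp_one]
    refine (adj.homEquiv Y' H).injective ?_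
    rw [hone H]
    apply (cancel_mono v).1
    rw [(hcorr _).2 (by rw [Category.assoc, he, MonObj.comp_one]), MonObj.one_comp]
  · intro hk
    haveI : Mono v := ⟨fun {Y} a b hab => by
      have h1 : (a * b⁻¹) ≫ v = 1 := by
        rw [MultLift.hom_mul v, GrpObj.inv_comp, hab, mul_inv_cancel]
      obtain ⟨c, hc⟩ := (adj.homEquiv Y H).surjective (a * b⁻¹)
      rw [← hc, hcorr] at h1
      have h2 := hk _ Y.hom rfl c h1
      rw [h2, hone H] at hc
      exact mul_inv_eq_one.1 hc.symm⟩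
    show Mono ((Over.forget T).map v)
    infer_instance

section Piece

variable {R : Type u} [CommRing R] {M : Type} [AddCommGroup M] (p : Spec (CommRingCat.of R) ⟶ S)
  (w : sp R (DA R M) ≅ Red.bc p H)

/-- The point of `H` given by characters. -/
def hpt {T : Type u} [CommRing T] [Algebra R T] (χ : Multiplicative M →* T) : (Over.map p).obj (sp R T) ⟶ H :=
  (Over.map p).map (pt (chr (R := R) T χ)) ≫ ((Over.mapPullbackAdj p).homEquiv (sp R (DA R M)) H).symm w.hom

theorem homEquiv_hpt {T : Type u} [CommRing T] [Algebra R T] (χ : Multiplicative M →* T) :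
    (Over.mapPullbackAdj p).homEquiv (sp R T) H (hpt p w χ) = pt (chr (R := R) T χ) ≫ w.hom := by
  rw [hpt, Adjunction.homEquiv_naturality_left]
  congr 1
  exact Equiv.apply_symm_apply _ _

theorem hpt_surjective {T : Type u} [CommRing T] [Algebra R T] (h : (Over.map p).obj (sp R T) ⟶ H) :
    ∃ χ : Multiplicative M →* T, h = hpt p w χ := by
  obtain ⟨a, ha⟩ := DiagRep.exists_pt ((Over.mapPullbackAdj p).homEquiv (sp R T) H h ≫ w.inv)
  refine ⟨a.toRingHom.toMonoidHom.comp (MonoidAlgebra.of R (Multiplicative M)),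
    ((Over.mapPullbackAdj p).homEquiv (sp R T) H).injective ?_⟩
  have hchr : chr (R := R) T (a.toRingHom.toMonoidHom.comp (MonoidAlgebra.of R (Multiplicative M))) = a :=
    (MonoidAlgebra.lift R T (Multiplicative M)).apply_symm_apply a
  rw [homEquiv_hpt, hchr, ← ha, Category.assoc, w.inv_hom_id, Category.comp_id]

theorem hpt_mul [IsMonHom w.hom] {T : Type u} [CommRing T] [Algebra R T] (χ χ' : Multiplicative M →* T) :
    hpt p w (χ * χ') = hpt p w χ * hpt p w χ' := by
  refine ((Over.mapPullbackAdj p).homEquiv (sp R T) H).injective ?_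
  rw [AlgGrp.Action.homEquiv_mul, homEquiv_hpt, homEquiv_hpt, homEquiv_hpt, ← MultLift.hom_mul w.hom]
  refine congrArg (· ≫ w.hom) ?_
  refine Eq.trans ?_ (pt_mul_pt (chr (R := R) T χ) (chr (R := R) T χ')).symm
  exact congrArg pt (AlgHom.toLinearMap_injective ((MonoidAlgebra.basis (Multiplicative M) R).ext fun m => by
    simp [chr]))

theorem hpt_one [IsMonHom w.hom] {T : Type u} [CommRing T] [Algebra R T] :
    hpt p w (1 : Multiplicative M →* T) = 1 := by
  have h := hpt_mul p w (1 : Multiplicative M →* T) 1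
  rw [one_mul] at h
  exact mul_eq_left.1 h.symm

theorem hpt_injective {T : Type u} [CommRing T] [Algebra R T] :
    Function.Injective (hpt p w (T := T)) := by
  intro χ χ' h
  have h1 := congrArg ((Over.mapPullbackAdj p).homEquiv (sp R T) H) h
  rw [homEquiv_hpt, homEquiv_hpt, cancel_mono] at h1
  refine MonoidHom.ext fun m => ?_
  have := DFunLike.congr_fun (pt_injective h1) (MonoidAlgebra.single m 1)
  simpa [chr] using this

theorem ev_eq_chr {T : Type u} [CommRing T] [Algebra R T] (χ : Multiplicative M →* T) :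
    ev (algebraMap R T) χ = (chr (R := R) T χ).toRingHom :=
  MonoidAlgebra.ringHom_ext (fun r => by simp [ev_single, chr, Algebra.smul_def])
    fun m => by simp [ev_single, chr]

theorem exists_kernel_ideal [IsSeparated G.hom] (u : H ⟶ G) :
    ∃ I : Ideal (DA R M), ∀ (T : Type u) [CommRing T] [Algebra R T] (χ : Multiplicative M →* T),
      hpt p w χ ≫ u = 1 ↔ I ≤ RingHom.ker (ev (algebraMap R T) χ) := by
  haveI : IsClosedImmersion (η[G] : 𝟙_ (Over S) ⟶ G).left := by
    haveI : IsClosedImmersion ((η[G] : 𝟙_ (Over S) ⟶ G).left ≫ G.hom) := by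
      rw [Over.w]
      exact inferInstanceAs (IsClosedImmersion (𝟙 S))
    exact IsClosedImmersion.of_comp _ G.hom
  let a₀ := ((Over.mapPullbackAdj p).homEquiv (sp R (DA R M)) H).symm w.hom
  haveI : IsClosedImmersion (kin u).left :=
    inferInstanceAs (IsClosedImmersion (pullback.fst u.left (η[G] : 𝟙_ (Over S) ⟶ G).left))
  let P := pullback (kin u).left a₀.left
  let π : P ⟶ Spec (CommRingCat.of (DA R M)) := pullback.snd _ _
  haveI : IsClosedImmersion π := inferInstanceAs (IsClosedImmersion (pullback.snd (kin u).left a₀.left))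
  obtain ⟨I, e, he⟩ := IsClosedImmersion.Spec_iff.1 ‹IsClosedImmersion π›
  refine ⟨I, fun T _ _ χ => ?_⟩
  rw [comp_eq_one_iff, ev_eq_chr]
  let c := chr (R := R) T χ
  have hl : (hpt p w χ).left = Spec.map (CommRingCat.ofHom c.toRingHom) ≫ a₀.left := by
    show (pt c).left ≫ a₀.left = _
    rw [pt_left]
    rfl
  constructor
  · rintro ⟨y, hy⟩
    let m : Spec (CommRingCat.of T) ⟶ P := pullback.lift y.left (Spec.map (CommRingCat.ofHom c.toRingHom))
      ((congrArg CommaMorphism.left hy).trans hl)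
    obtain ⟨χ', hχ⟩ := Spec.map_surjective (m ≫ e.hom)
    have h1 : CommRingCat.ofHom (Ideal.Quotient.mk I) ≫ χ' = CommRingCat.ofHom c.toRingHom := by
      refine Spec.map_injective ((Spec.map_comp _ _).trans ?_)
      rw [hχ, Category.assoc, ← he]
      exact pullback.lift_snd _ _ _
    intro x hx
    rw [RingHom.mem_ker, ← CommRingCat.hom_ofHom c.toRingHom, ← h1]
    show χ'.hom (Ideal.Quotient.mk I x) = 0
    rw [Ideal.Quotient.eq_zero_iff_mem.2 hx, map_zero]
  · intro hx
    let l : Spec (CommRingCat.of T) ⟶ (kob u).left :=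
      Spec.map (CommRingCat.ofHom (Ideal.Quotient.lift I c.toRingHom hx)) ≫ e.inv ≫ pullback.fst _ _
    have hlk : l ≫ (kin u).left = (hpt p w χ).left := by
      rw [Category.assoc, Category.assoc, pullback.condition, hl, ← Category.assoc (e.inv)]
      have h1 : e.inv ≫ π = Spec.map (CommRingCat.ofHom (Ideal.Quotient.mk I)) := by rw [Iso.inv_comp_eq, he]
      rw [show e.inv ≫ pullback.snd (kin u).left a₀.left = _ from h1]
      exact (Spec.map_comp_assoc _ _ _).symm
    refine ⟨Over.homMk l ?_, Over.OverMorphism.ext hlk⟩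
    exact ((congrArg (l ≫ ·) (Over.w (kin u))).symm.trans (Category.assoc _ _ _).symm).trans
      ((congrArg (· ≫ H.hom) hlk).trans (Over.w _))

theorem mulClosed_kernel (u : H ⟶ G) [IsMonHom u] [IsMonHom w.hom] {I : Ideal (DA R M)}
    (hI : ∀ (T : Type u) [CommRing T] [Algebra R T] (χ : Multiplicative M →* T),
      hpt p w χ ≫ u = 1 ↔ I ≤ RingHom.ker (ev (algebraMap R T) χ)) : MulClosed I := by
  intro T _ φ χ χ' h h'
  letI := φ.toAlgebra
  refine (hI T (χ * χ')).1 ?_
  rw [hpt_mul, MultLift.hom_mul u, (hI T χ).2 h, (hI T χ').2 h', one_mul]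

theorem ktriv_iff_trv (u : H ⟶ G) [IsMonHom w.hom] {I : Ideal (DA R M)}
    (hI : ∀ (T : Type u) [CommRing T] [Algebra R T] (χ : Multiplicative M →* T),
      hpt p w χ ≫ u = 1 ↔ I ≤ RingHom.ker (ev (algebraMap R T) χ))
    {k : Type u} [CommRing k] (ψ : R →+* k) :
    KTriv u (Spec.map (CommRingCat.ofHom ψ) ≫ p) ↔ Trv I ψ := by
  rw [ktriv_iff]
  constructor
  · intro hk T _ g χ hχ
    letI := (g.comp ψ).toAlgebra
    refine hpt_injective p w ((hk _ (Spec.map (CommRingCat.ofHom g)) ?_ _ ((hI T χ).2 hχ)).trans (hpt_one p w).symm)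
    show _ = Spec.map (CommRingCat.ofHom (g.comp ψ)) ≫ p
    rw [CommRingCat.ofHom_comp, Spec.map_comp_assoc]
    rfl
  · intro hk Y q hq h he
    refine Over.OverMorphism.ext (Y.left.affineOpenCover.openCover.hom_ext _ _ fun i => ?_)
    let A : Type u := Y.left.affineOpenCover.X i
    let f : Spec (CommRingCat.of A) ⟶ Y.left := Y.left.affineOpenCover.f i
    obtain ⟨g, hg⟩ := Spec.map_surjective (f ≫ q)
    letI : Algebra R A := (g.hom.comp ψ).toAlgebra
    let e : (Over.map p).obj (sp R A) ⟶ Y := Over.homMk f (by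
      show f ≫ Y.hom = Spec.map (CommRingCat.ofHom (g.hom.comp ψ)) ≫ p
      rw [← hq, ← Category.assoc, ← hg, CommRingCat.ofHom_comp, Spec.map_comp_assoc]
      simp)
    obtain ⟨χ, hχ⟩ := hpt_surjective p w (e ≫ h)
    have h1 : e ≫ h = 1 := by
      rw [hχ, hk A g.hom χ ((hI A χ).1 (by rw [← hχ, Category.assoc, he, MonObj.comp_one])), hpt_one]
    rw [← MonObj.comp_one e] at h1
    exact congrArg CommaMorphism.left h1

end Piece

/-- Openness on a split piece. -/
theorem exists_nhd_piece [IsSeparated G.hom] (u : H ⟶ G) [IsMonHom u] {R : Type u} [CommRing R] {M : Type}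
    [AddCommGroup M] [AddGroup.FG M] {U : Scheme.{u}} {g : U ⟶ S} (e : Grp.mk (Red.bc g H) ≅ Grp.mk (Red.DS U M))
    (j : Spec (CommRingCat.of R) ⟶ U) (p : Spec (CommRingCat.of R) ⟶ S) (hp : j ≫ g = p)
    (q : PrimeSpectrum R) (hx : KTriv u (S.fromSpecResidueField (p q))) :
    ∃ r : R, q ∈ PrimeSpectrum.basicOpen r ∧ ∀ t ∈ PrimeSpectrum.basicOpen r,
      KTriv u (S.fromSpecResidueField (p t)) := by
  obtain ⟨w, hw⟩ := MultLift.exists_split_iso e j p hp
  haveI := hw
  obtain ⟨I, hI⟩ := exists_kernel_ideal p w u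
  have hfield : ∀ t : PrimeSpectrum R,
      KTriv u (S.fromSpecResidueField (p t)) ↔ Trv I (algebraMap R t.asIdeal.ResidueField) := by
    intro t
    rw [← ktriv_iff_trv p w u hI]
    let F := t.asIdeal.ResidueField
    have hpt' : (Spec.map (CommRingCat.ofHom (algebraMap R F)) ≫ p) (IsLocalRing.closedPoint F) = p t := by
      rw [Scheme.Hom.comp_apply]
      refine congrArg (fun b => p b) (PrimeSpectrum.ext ?_)
      show Ideal.comap (algebraMap R F) (IsLocalRing.maximalIdeal F) = t.asIdeal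
      rw [IsLocalRing.isField_iff_maximalIdeal_eq.1 (Field.toIsField F)]
      exact Ideal.ker_algebraMap_residueField _
    have h := TrivLocus.triv_field_iff (u := kin u) (Spec.map (CommRingCat.ofHom (algebraMap R F)) ≫ p)
    rw [hpt'] at h
    exact h.symm
  obtain ⟨r, hr, hrT⟩ := exists_basicOpen I (mulClosed_kernel p w u hI) q.asIdeal ((hfield q).1 hx)
  exact ⟨r, hr, fun t ht => (hfield t).2 (hrT _ _ fun h => ht (Ideal.algebraMap_residueField_eq_zero.1 h))⟩

theorem isOpen_locus [IsSeparated G.hom] (u : H ⟶ G) [IsMonHom u] (hH : SGA3x.IsMultTypeFT H) :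
    IsOpen {s : S | KTriv u (S.fromSpecResidueField s)} := by
  obtain ⟨S', f, hflat, hsurj, hcov, hloc⟩ := hH
  haveI := hflat
  haveI := hsurj
  let W₀ : Set S := {s | KTriv u (S.fromSpecResidueField s)}
  have hopen : IsOpen (f ⁻¹' W₀) := by
    refine isOpen_iff_forall_mem_open.2 fun x hx => ?_
    obtain ⟨U, hxU, M, _, hM, ⟨e⟩⟩ := hloc x
    haveI := hM
    obtain ⟨T, hT, hxT, hTU⟩ := exists_isAffineOpen_mem_and_subset (X := S') (x := x) hxU
    haveI : IsAffine (T : Scheme.{u}) := hT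
    let R : Type u := Γ((T : Scheme.{u}), ⊤)
    let ι' : Spec (CommRingCat.of R) ⟶ S' := (T : Scheme.{u}).isoSpec.inv ≫ T.ι
    haveI : IsOpenImmersion ι' := inferInstanceAs (IsOpenImmersion ((T : Scheme.{u}).isoSpec.inv ≫ T.ι))
    obtain ⟨a, ha⟩ : x ∈ Set.range ι' := by
      obtain ⟨a, ha⟩ := (T : Scheme.{u}).isoSpec.inv.surjective ⟨x, hxT⟩
      refine ⟨a, ?_⟩
      show ((T : Scheme.{u}).isoSpec.inv ≫ T.ι) a = x
      rw [Scheme.Hom.comp_apply, ha]
      rfl
    obtain ⟨g, hg, hgW⟩ := exists_nhd_piece u e ((T : Scheme.{u}).isoSpec.inv ≫ S'.homOfLE hTU) (ι' ≫ f) (by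
      rw [Category.assoc, Scheme.homOfLE_ι_assoc, ← Category.assoc]
      rfl) a (by
      show KTriv u (S.fromSpecResidueField (f (ι' a)))
      rw [ha]
      exact hx)
    refine ⟨ι' '' {t | t ∈ PrimeSpectrum.basicOpen g}, ?_,
      ι'.isOpenEmbedding.isOpenMap _ (PrimeSpectrum.basicOpen g).isOpen, ⟨a, hg, ha⟩⟩
    rintro _ ⟨t, ht, rfl⟩
    exact hgW t ht
  refine isOpen_iff_forall_mem_open.2 fun y hy => ?_
  obtain ⟨V, hV, hyV, -⟩ := exists_isAffineOpen_mem_and_subset (X := S) (x := y) (U := ⊤) trivial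
  obtain ⟨W, hW, hWV⟩ := hcov V hV
  have hle : W ≤ f ⁻¹ᵁ V := fun z hz => by
    show f.base z ∈ (V : Set S)
    rw [← hWV]
    exact ⟨z, hz, rfl⟩
  let g : (W : Scheme.{u}) ⟶ V := f.resLE V W hle
  haveI : Flat g := by
    haveI : Flat (g ≫ V.ι) := by
      rw [Scheme.Hom.resLE_comp_ι]; infer_instance
    exact MorphismProperty.of_postcomp (W' := @IsOpenImmersion) @Flat g V.ι inferInstance inferInstance
  have hg : ∀ z : (W : Scheme.{u}), V.ι (g z) = f (W.ι z) := fun z => by
    rw [← Scheme.Hom.comp_apply, ← Scheme.Hom.comp_apply, Scheme.Hom.resLE_comp_ι]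
  haveI : Surjective g := ⟨fun v => by
    have hv : V.ι v ∈ f.base '' (W : Set S') := by rw [hWV]; exact v.2
    obtain ⟨z, hz, hzv⟩ := hv
    exact ⟨⟨z, hz⟩, V.ι.isOpenEmbedding.injective ((hg ⟨z, hz⟩).trans hzv)⟩⟩
  haveI : CompactSpace (W : Scheme.{u}) := isCompact_iff_compactSpace.1 hW
  haveI : IsAffine (V : Scheme.{u}) := hV
  haveI : QuasiCompact g := quasiCompact_iff_compactSpace g |>.2 inferInstance
  have hpre : IsOpen (V.ι ⁻¹' W₀) := (Flat.isQuotientMap_of_surjective g).isOpen_preimage.1 (by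
    have h1 : g ⁻¹' (V.ι ⁻¹' W₀) = W.ι ⁻¹' (f ⁻¹' W₀) := Set.ext fun z => by simp only [Set.mem_preimage, hg]
    exact h1 ▸ hopen.preimage W.ι.continuous)
  exact ⟨V.ι '' (V.ι ⁻¹' W₀), by rintro _ ⟨z, hz, rfl⟩; exact hz, V.ι.isOpenEmbedding.isOpenMap _ hpre,
    ⟨y, hyV⟩, hy, rfl⟩

end Groth.Agent.MonoLocus
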