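import Mathlib

/-!
A closed subgroup of a diagonalisable group which is trivial at a prime is trivial on a neighbourhood of it.
-/

set_option autoImplicit false

noncomputable section

universe u

open scoped TensorProduct

namespace Groth.Agent.MonoLocus

/-- Elements squared by a linear map are linearly independent. -/
theorem linearIndepOn_sq {k B : Type*} [Field k] [AddCommGroup B] [Module k B] (Δ : B →ₗ[k] B ⊗[k] B) (J : Finset B)
    (hJ : ∀ x ∈ J, Δ x = x ⊗ₜ x) (h0 : ∀ x ∈ J, x ≠ 0) (c : B → k) (hc : ∑ x ∈ J, c x • x = 0) :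
    ∀ x ∈ J, c x = 0 := by
  classical
  induction J using Finset.induction_on generalizing c with
  | empty => simp
  | @insert x J hx ih =>
    have ih' := ih (fun y hy => hJ y (Finset.mem_insert_of_mem hy)) (fun y hy => h0 y (Finset.mem_insert_of_mem hy))
    have hkey : ∀ φ : B →ₗ[k] k, ∀ y ∈ J, c y * (φ y - φ x) = 0 := by
      intro φ
      refine ih' _ ?_
      have h1 := congrArg (fun b => TensorProduct.lid k B (φ.rTensor B (Δ b))) hc
      simp only [map_sum, map_smul, map_zero] at h1
      rw [Finset.sum_congr rfl (fun y hy => by rw [hJ y hy])] at h1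
      simp only [LinearMap.rTensor_tmul, TensorProduct.lid_tmul, smul_smul] at h1
      rw [Finset.sum_insert hx] at h1
      have h2 := congrArg (φ x • ·) hc
      simp only [smul_zero, Finset.smul_sum, smul_smul] at h2
      rw [Finset.sum_insert hx] at h2
      simp only [mul_sub, sub_smul, Finset.sum_sub_distrib]
      have h3 : ∀ y : B, (φ x * c y) • y = (c y * φ x) • y := fun y => by rw [mul_comm]
      simp only [h3] at h2
      linear_combination (norm := module) h1 - h2
    have hJ0 : ∀ y ∈ J, c y = 0 := by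
      intro y hy
      by_contra hne
      have hyx : y ≠ x := fun h => hx (h ▸ hy)
      refine hyx (sub_eq_zero.1 (Module.forall_dual_apply_eq_zero_iff k _ |>.1 fun φ => ?_))
      rw [map_sub]
      exact (mul_eq_zero.1 (hkey φ y hy)).resolve_left hne
    intro y hy
    rcases Finset.mem_insert.1 hy with rfl | hy
    · rw [Finset.sum_insert hx, Finset.sum_eq_zero (fun z hz => by rw [hJ0 z hz, zero_smul]), add_zero] at hc
      exact (smul_eq_zero.1 hc).resolve_right (h0 y (Finset.mem_insert_self _ _))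
    · exact hJ0 y hy

variable {R : Type u} [CommRing R] {M : Type} [AddCommGroup M]

/-- The point with values in `T` given by characters. -/
def ev {T : Type u} [CommRing T] (φ : R →+* T) (χ : Multiplicative M →* T) :
    MonoidAlgebra R (Multiplicative M) →+* T :=
  MonoidAlgebra.liftNCRingHom φ χ fun _ _ => Commute.all _ _

theorem ev_single {T : Type u} [CommRing T] (φ : R →+* T) (χ : Multiplicative M →* T) (m : Multiplicative M) (r : R) :
    ev φ χ (MonoidAlgebra.single m r) = φ r * χ m := by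
  simp [ev, MonoidAlgebra.liftNCRingHom]

theorem ev_comp {T T' : Type u} [CommRing T] [CommRing T'] (g : T →+* T') (φ : R →+* T)
    (χ : Multiplicative M →* T) : g.comp (ev φ χ) = ev (g.comp φ) (g.toMonoidHom.comp χ) := by
  refine MonoidAlgebra.ringHom_ext (fun r => ?_) fun m => ?_
  · simp [ev_single]
  · simp [ev_single]

/-- The ideal cuts out a trivial scheme along `ψ`. -/
def Trv (I : Ideal (MonoidAlgebra R (Multiplicative M))) {k : Type u} [CommRing k] (ψ : R →+* k) : Prop :=
  ∀ (T : Type u) [CommRing T] (g : k →+* T) (χ : Multiplicative M →* T), I ≤ RingHom.ker (ev (g.comp ψ) χ) → χ = 1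

/-- Closed under the product of points. -/
def MulClosed (I : Ideal (MonoidAlgebra R (Multiplicative M))) : Prop :=
  ∀ (T : Type u) [CommRing T] (φ : R →+* T) (χ χ' : Multiplicative M →* T),
    I ≤ RingHom.ker (ev φ χ) → I ≤ RingHom.ker (ev φ χ') → I ≤ RingHom.ker (ev φ (χ * χ'))

section Univ

variable (I : Ideal (MonoidAlgebra R (Multiplicative M))) {k : Type u} [CommRing k] (ψ : R →+* k)

/-- Change of coefficients. -/
def mp : MonoidAlgebra R (Multiplicative M) →+* MonoidAlgebra k (Multiplicative M) :=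
  ev ((algebraMap k _).comp ψ) (MonoidAlgebra.of k (Multiplicative M))

theorem mp_single (m : Multiplicative M) (r : R) :
    mp ψ (MonoidAlgebra.single m r) = MonoidAlgebra.single m (ψ r) := by
  rw [mp, ev_single]
  simp [MonoidAlgebra.single_mul_single]

/-- The universal character killed by `I` over `k`. -/
def uchr : Multiplicative M →* MonoidAlgebra k (Multiplicative M) ⧸ I.map (mp ψ) :=
  (Ideal.Quotient.mk (I.map (mp ψ))).toMonoidHom.comp (MonoidAlgebra.of k (Multiplicative M))

theorem ev_uchr : ev ((algebraMap k _).comp ψ) (uchr I ψ) = (Ideal.Quotient.mk (I.map (mp ψ))).comp (mp ψ) := by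
  show _ = (Ideal.Quotient.mk (I.map (mp ψ))).comp (ev ((algebraMap k _).comp ψ) _)
  rw [ev_comp]
  rfl

theorem le_ker_uchr : I ≤ RingHom.ker (ev ((algebraMap k _).comp ψ) (uchr I ψ)) := by
  intro x hx
  rw [RingHom.mem_ker, ev_uchr, RingHom.comp_apply, Ideal.Quotient.eq_zero_iff_mem]
  exact Ideal.mem_map_of_mem _ hx

end Univ

theorem single_one_mul' {k : Type u} [CommRing k] (r : k) (x : MonoidAlgebra k (Multiplicative M)) :
    MonoidAlgebra.single (1 : Multiplicative M) r * x = r • x := by
  rw [Algebra.smul_def]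
  rfl

theorem mp_C {k : Type u} [CommRing k] (ψ : R →+* k) (r : R) (x : MonoidAlgebra R (Multiplicative M)) :
    mp ψ (MonoidAlgebra.single 1 r * x) = ψ r • mp ψ x := by
  rw [map_mul, mp_single, single_one_mul']

theorem exists_mp_eq (q : Ideal R) [q.IsPrime] (a : MonoidAlgebra q.ResidueField (Multiplicative M)) :
    ∃ c ∉ q, ∃ d, mp (algebraMap R q.ResidueField) d = algebraMap R q.ResidueField c • a := by
  induction a using MonoidAlgebra.induction_linear with
  | zero => exact ⟨1, q.primeCompl.one_mem, 0, by simp⟩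
  | add x y hx hy =>
    obtain ⟨c, hc, d, hd⟩ := hx
    obtain ⟨c', hc', d', hd'⟩ := hy
    refine ⟨c * c', q.primeCompl.mul_mem hc hc', MonoidAlgebra.single 1 c' * d + MonoidAlgebra.single 1 c * d', ?_⟩
    rw [map_add, mp_C, mp_C, hd, hd', smul_smul, smul_smul, map_mul, smul_add, mul_comm (algebraMap R _ c')]
  | single m x =>
    obtain ⟨r, c, hc, hx⟩ := IsFractionRing.div_surjective (A := R ⧸ q) x
    obtain ⟨r, rfl⟩ := Ideal.Quotient.mk_surjective r
    obtain ⟨c, rfl⟩ := Ideal.Quotient.mk_surjective c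
    have hcq : c ∉ q := fun h => nonZeroDivisors.ne_zero hc (Ideal.Quotient.eq_zero_iff_mem.2 h)
    refine ⟨c, hcq, MonoidAlgebra.single m r, ?_⟩
    rw [mp_single, MonoidAlgebra.smul_single, smul_eq_mul, ← hx]
    have hc0 : algebraMap R q.ResidueField c ≠ 0 := fun h => hcq (Ideal.algebraMap_residueField_eq_zero.1 h)
    congr 1
    rw [show algebraMap (R ⧸ q) q.ResidueField (Ideal.Quotient.mk q r) = algebraMap R q.ResidueField r from rfl,
      show algebraMap (R ⧸ q) q.ResidueField (Ideal.Quotient.mk q c) = algebraMap R q.ResidueField c from rfl]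
    field_simp

theorem exists_mem_of_map (I : Ideal (MonoidAlgebra R (Multiplicative M))) (q : Ideal R) [q.IsPrime]
    {x : MonoidAlgebra q.ResidueField (Multiplicative M)} (hx : x ∈ I.map (mp (algebraMap R q.ResidueField))) :
    ∃ c ∉ q, ∃ f ∈ I, mp (algebraMap R q.ResidueField) f = algebraMap R q.ResidueField c • x := by
  induction hx using Submodule.span_induction with
  | mem y hy =>
    obtain ⟨f, hf, rfl⟩ := hy
    exact ⟨1, q.primeCompl.one_mem, f, hf, by simp⟩
  | zero => exact ⟨1, q.primeCompl.one_mem, 0, I.zero_mem, by simp⟩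
  | add y z _ _ hy hz =>
    obtain ⟨c, hc, f, hf, e⟩ := hy
    obtain ⟨c', hc', f', hf', e'⟩ := hz
    refine ⟨c * c', q.primeCompl.mul_mem hc hc', MonoidAlgebra.single 1 c' * f + MonoidAlgebra.single 1 c * f',
      I.add_mem (I.mul_mem_left _ hf) (I.mul_mem_left _ hf'), ?_⟩
    rw [map_add, mp_C, mp_C, e, e', smul_smul, smul_smul, map_mul, smul_add, mul_comm (algebraMap R _ c')]
  | smul a y _ hy =>
    obtain ⟨c, hc, f, hf, e⟩ := hy
    obtain ⟨c', hc', d, hd⟩ := exists_mp_eq q a
    refine ⟨c' * c, q.primeCompl.mul_mem hc' hc, d * f, I.mul_mem_left _ hf, ?_⟩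
    rw [map_mul, map_mul, hd, e, smul_eq_mul, smul_mul_smul_comm]

theorem mp_eq_sum (f : MonoidAlgebra R (Multiplicative M)) {k : Type u} [CommRing k] (ψ : R →+* k)
    (F : Finset (Multiplicative M)) (hF : f.coeff.support ⊆ F) :
    mp ψ f = ∑ j ∈ F, MonoidAlgebra.single j (ψ (f.coeff j)) := by
  classical
  conv_lhs => rw [← MonoidAlgebra.sum_single f]
  rw [Finsupp.sum_of_support_subset _ hF _ (by simp)]
  simp [mp_single]

/-- A relation among characters with nonvanishing partial sums forces triviality. -/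
theorem eq_one_of_relation {k : Type u} [Field k] {B : Type u} [CommRing B] [Algebra k B] (Δ : B →ₗ[k] B ⊗[k] B)
    (e : Multiplicative M →* B) (hΔ : ∀ j, Δ (e j) = e j ⊗ₜ e j) (F : Finset (Multiplicative M))
    (a : Multiplicative M → k) (hrel : ∑ j ∈ F, a j • e j = 0) (m : Multiplicative M) (hm : m ∈ F)
    (hJ : ∀ J ⊆ F, m ∈ J → (1 : Multiplicative M) ∉ J → ∑ j ∈ J, a j ≠ 0) : e m = 1 := by
  classical
  by_contra hne
  have hB : (1 : B) ≠ 0 := fun h => hne (eq_of_zero_eq_one h.symm _ _)
  have he0 : ∀ j, e j ≠ 0 := fun j h => hB (by rw [← map_one e, ← mul_inv_cancel j, map_mul, h, zero_mul])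
  have h0 : ∑ b ∈ F.image e, (∑ j ∈ F.filter (fun j => e j = b), a j) • b = 0 := by
    rw [← hrel, ← Finset.sum_fiberwise_of_maps_to (fun j hj => Finset.mem_image_of_mem e hj)]
    refine Finset.sum_congr rfl fun b _ => ?_
    rw [Finset.sum_smul]
    exact Finset.sum_congr rfl fun j hj => by rw [(Finset.mem_filter.1 hj).2]
  have h1 := linearIndepOn_sq Δ (F.image e) (fun b hb => by
      obtain ⟨j, -, rfl⟩ := Finset.mem_image.1 hb
      exact hΔ j) (fun b hb => by
      obtain ⟨j, -, rfl⟩ := Finset.mem_image.1 hb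
      exact he0 j) _ h0 (e m) (Finset.mem_image_of_mem e hm)
  refine hJ (F.filter fun j => e j = e m) (Finset.filter_subset _ _) (Finset.mem_filter.2 ⟨hm, rfl⟩) (fun h => hne ?_) h1
  rw [← map_one e]
  exact (Finset.mem_filter.1 h).2.symm

theorem mul_includes {k : Type u} [CommRing k] {B : Type u} [CommRing B] [Algebra k B] (x y : B) :
    (Algebra.TensorProduct.includeLeft : B →ₐ[k] B ⊗[k] B) x *
      (Algebra.TensorProduct.includeRight : B →ₐ[k] B ⊗[k] B) y = x ⊗ₜ y := by
  rw [Algebra.TensorProduct.includeLeft_apply, Algebra.TensorProduct.includeRight_apply,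
    Algebra.TensorProduct.tmul_mul_tmul, one_mul, mul_one]

/-- Descend a diagonal to the quotient. -/
theorem exists_diag {k : Type u} [CommRing k] {A B : Type u} [CommRing A] [Algebra k A] [CommRing B] [Algebra k B]
    (π : A →ₐ[k] B) (hπ : Function.Surjective π) (ι' : Type) (x : ι' → A)
    (hpair : ∀ (T : Type u) [CommRing T] [Algebra k T] (iL iR : B →ₐ[k] T), ∃ D : A →ₐ[k] T,
      RingHom.ker π ≤ RingHom.ker D ∧ ∀ j, D (x j) = iL (π (x j)) * iR (π (x j))) :
    ∃ Δ : B →ₗ[k] B ⊗[k] B, ∀ j, Δ (π (x j)) = π (x j) ⊗ₜ π (x j) := by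
  obtain ⟨D, hD, hval⟩ := hpair (B ⊗[k] B) Algebra.TensorProduct.includeLeft Algebra.TensorProduct.includeRight
  refine ⟨(AlgHom.liftOfSurjective π hπ D hD).toLinearMap, fun j => ?_⟩
  rw [AlgHom.toLinearMap_apply, AlgHom.liftOfSurjective_apply, hval, mul_includes]

/-- The product of two images of the universal character kills `I`. -/
theorem exists_pair_hom (I : Ideal (MonoidAlgebra R (Multiplicative M))) (hI : MulClosed I) {k : Type u} [CommRing k]
    (ψ : R →+* k) {T : Type u} [CommRing T] [Algebra k T]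
    (iL iR : (MonoidAlgebra k (Multiplicative M) ⧸ I.map (mp ψ)) →ₐ[k] T) :
    ∃ D : MonoidAlgebra k (Multiplicative M) →ₐ[k] T, I.map (mp ψ) ≤ RingHom.ker D ∧
      ∀ j, D (MonoidAlgebra.single j 1) = iL (uchr I ψ j) * iR (uchr I ψ j) := by
  let φ : R →+* T := (algebraMap k T).comp ψ
  have hpush : ∀ i : (MonoidAlgebra k (Multiplicative M) ⧸ I.map (mp ψ)) →ₐ[k] T,
      I ≤ RingHom.ker (ev φ (i.toRingHom.toMonoidHom.comp (uchr I ψ))) := fun i => by
    have : ev φ (i.toRingHom.toMonoidHom.comp (uchr I ψ)) =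
        i.toRingHom.comp (ev ((algebraMap k _).comp ψ) (uchr I ψ)) := by
      rw [ev_comp]
      congr 1
      exact RingHom.ext fun r => (i.commutes (ψ r)).symm
    intro x hx
    rw [RingHom.mem_ker, this, RingHom.comp_apply, RingHom.mem_ker.1 (le_ker_uchr I ψ hx), map_zero]
  have hd := hI _ φ _ _ (hpush iL) (hpush iR)
  let χ := iL.toRingHom.toMonoidHom.comp (uchr I ψ) * iR.toRingHom.toMonoidHom.comp (uchr I ψ)
  let D : MonoidAlgebra k (Multiplicative M) →ₐ[k] T := MonoidAlgebra.lift k T (Multiplicative M) χ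
  have hval : ∀ j r, D (MonoidAlgebra.single j r) = r • χ j := fun j r => MonoidAlgebra.lift_single _ _ _
  refine ⟨D, ?_, fun j => (hval j 1).trans (one_smul _ _)⟩
  rw [Ideal.map_le_iff_le_comap]
  have : D.toRingHom.comp (mp ψ) = ev φ χ := by
    refine MonoidAlgebra.ringHom_ext (fun r => ?_) fun m => ?_
    · rw [RingHom.comp_apply, mp_single, ev_single, map_one, mul_one]
      exact (hval 1 (ψ r)).trans (by rw [map_one, Algebra.smul_def, mul_one]; rfl)
    · rw [RingHom.comp_apply, mp_single, ev_single, map_one, map_one, one_mul]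
      exact (hval m 1).trans (one_smul _ _)
  intro x hx
  show D.toRingHom (mp ψ x) = 0
  rw [← RingHom.comp_apply, this]
  exact hd hx

/-- The universal character squared. -/
theorem exists_diag_uchr (I : Ideal (MonoidAlgebra R (Multiplicative M))) (hI : MulClosed I) {k : Type u} [Field k]
    (ψ : R →+* k) : ∃ Δ : (MonoidAlgebra k (Multiplicative M) ⧸ I.map (mp ψ)) →ₗ[k]
        (MonoidAlgebra k (Multiplicative M) ⧸ I.map (mp ψ)) ⊗[k] (MonoidAlgebra k (Multiplicative M) ⧸ I.map (mp ψ)),
      ∀ j, Δ (uchr I ψ j) = uchr I ψ j ⊗ₜ uchr I ψ j := by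
  refine exists_diag (Ideal.Quotient.mkₐ k (I.map (mp ψ))) Ideal.Quotient.mk_surjective (Multiplicative M)
    (fun j => MonoidAlgebra.single j (1 : k)) fun T _ _ iL iR => ?_
  obtain ⟨D, hD, hval⟩ := exists_pair_hom I hI ψ iL iR
  exact ⟨D, (le_of_eq Ideal.mk_ker).trans hD, hval⟩

theorem coeff_mp (f : MonoidAlgebra R (Multiplicative M)) {k : Type u} [CommRing k] (ψ : R →+* k)
    (j : Multiplicative M) : (mp ψ f).coeff j = ψ (f.coeff j) := by
  classical
  induction f using MonoidAlgebra.induction_linear with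
  | zero => simp
  | add x y hx hy => simp [hx, hy]
  | single m r => rw [mp_single]; simp [MonoidAlgebra.coeff_single, Finsupp.single_apply, apply_ite ψ]

theorem mem_of_trv (I : Ideal (MonoidAlgebra R (Multiplicative M))) {k : Type u} [CommRing k] (ψ : R →+* k)
    (hq : Trv I ψ) (m : Multiplicative M) :
    MonoidAlgebra.single m (1 : k) - MonoidAlgebra.single 1 1 ∈ I.map (mp ψ) := by
  have h1 := DFunLike.congr_fun
    (hq (MonoidAlgebra k (Multiplicative M) ⧸ I.map (mp ψ)) (algebraMap k _) (uchr I ψ) (le_ker_uchr I ψ)) m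
  refine Ideal.Quotient.eq.1 (h1.trans ?_)
  exact (map_one (Ideal.Quotient.mk (I.map (mp ψ)))).symm.trans (congrArg _ MonoidAlgebra.one_def)

/-- The element of `I` isolating a character. -/
theorem exists_coef (I : Ideal (MonoidAlgebra R (Multiplicative M))) (q : Ideal R) [q.IsPrime]
    (hq : Trv I (algebraMap R q.ResidueField)) (m : Multiplicative M) :
    ∃ f ∈ I, ∀ J : Finset (Multiplicative M), m ∈ J → (1 : Multiplicative M) ∉ J → ∑ j ∈ J, f.coeff j ∉ q := by
  classical
  have hmem := mem_of_trv I (algebraMap R q.ResidueField) hq m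
  obtain ⟨c, hc, f, hf, hfc⟩ := exists_mem_of_map I q hmem
  refine ⟨f, hf, fun J hmJ h1J h => hc ?_⟩
  have hj : ∀ j, algebraMap R q.ResidueField (f.coeff j) =
      algebraMap R q.ResidueField c * ((if m = j then 1 else 0) - (if (1 : Multiplicative M) = j then 1 else 0)) := by
    intro j
    rw [← coeff_mp, hfc]
    simp [MonoidAlgebra.coeff_single, Finsupp.single_apply, Algebra.smul_def]
  rw [← Ideal.algebraMap_residueField_eq_zero, map_sum, Finset.sum_congr rfl (fun j _ => hj j),
    ← Finset.mul_sum, Finset.sum_sub_distrib, Finset.sum_ite_eq, Finset.sum_ite_eq, if_pos hmJ, if_neg h1J,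
    sub_zero, mul_one, Ideal.algebraMap_residueField_eq_zero] at h
  exact h

/-- Along the locus where one element is a unit, a character stays trivial. -/
theorem exists_eq_one (I : Ideal (MonoidAlgebra R (Multiplicative M))) (hI : MulClosed I) (q : Ideal R) [q.IsPrime]
    (hq : Trv I (algebraMap R q.ResidueField)) (m : Multiplicative M) :
    ∃ g ∉ q, ∀ (k : Type u) [Field k] (ψ : R →+* k), ψ g ≠ 0 → uchr I ψ m = 1 := by
  classical
  obtain ⟨f, hf, hJq⟩ := exists_coef I q hq m
  let F := insert m (insert 1 f.coeff.support)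
  let P := F.powerset.filter fun J => m ∈ J ∧ (1 : Multiplicative M) ∉ J
  refine ⟨∏ J ∈ P, ∑ j ∈ J, f.coeff j, fun h => ?_, fun k _ ψ hg => ?_⟩
  · obtain ⟨J, hJ, hJ'⟩ := Ideal.IsPrime.prod_mem_iff.1 h
    exact hJq J (Finset.mem_filter.1 hJ).2.1 (Finset.mem_filter.1 hJ).2.2 hJ'
  obtain ⟨Δ, hΔ⟩ := exists_diag_uchr I hI ψ
  refine eq_one_of_relation Δ (uchr I ψ) hΔ F (fun j => ψ (f.coeff j)) ?_ m (Finset.mem_insert_self _ _)
    fun J hJF hmJ h1J h => hg ?_
  · have h0 : Ideal.Quotient.mkₐ k (I.map (mp ψ)) (mp ψ f) = 0 :=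
      Ideal.Quotient.eq_zero_iff_mem.2 (Ideal.mem_map_of_mem _ hf)
    rw [mp_eq_sum f ψ F ((Finset.subset_insert _ _).trans (Finset.subset_insert _ _)), map_sum] at h0
    rw [← h0]
    refine Finset.sum_congr rfl fun j _ => ?_
    have : MonoidAlgebra.single j (ψ (f.coeff j)) = ψ (f.coeff j) • MonoidAlgebra.single j (1 : k) := by simp
    rw [this, map_smul]
    rfl
  · rw [map_prod]
    exact Finset.prod_eq_zero (Finset.mem_filter.2 ⟨Finset.mem_powerset.2 hJF, hmJ, h1J⟩) (by rw [map_sum]; exact h)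

/-- Triviality spreads to a basic open. -/
theorem exists_basicOpen [AddGroup.FG M] (I : Ideal (MonoidAlgebra R (Multiplicative M))) (hI : MulClosed I)
    (q : Ideal R) [q.IsPrime] (hq : Trv I (algebraMap R q.ResidueField)) :
    ∃ g ∉ q, ∀ (k : Type u) [Field k] (ψ : R →+* k), ψ g ≠ 0 → Trv I ψ := by
  classical
  obtain ⟨Sg, hS⟩ := AddGroup.fg_def.1 (inferInstance : AddGroup.FG M)
  choose g hg hone using fun m : M => exists_eq_one I hI q hq (Multiplicative.ofAdd m)
  refine ⟨∏ m ∈ Sg, g m, fun h => ?_, fun k _ ψ hψ T _ h χ hχ => ?_⟩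
  · obtain ⟨m, -, hm⟩ := Ideal.IsPrime.prod_mem_iff.1 h
    exact hg m hm
  · have hu : ∀ m : M, uchr I ψ (Multiplicative.ofAdd m) = 1 := by
      intro m
      have hm : m ∈ AddSubgroup.closure (Sg : Set M) := hS ▸ AddSubgroup.mem_top m
      induction hm using AddSubgroup.closure_induction with
      | mem x hx =>
        refine hone x k ψ fun h0 => hψ ?_
        rw [map_prod]
        exact Finset.prod_eq_zero hx h0
      | zero => exact map_one _
      | add x y _ _ hx hy => rw [ofAdd_add, map_mul, hx, hy, one_mul]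
      | neg x _ hx =>
        have := congrArg (uchr I ψ) (mul_inv_cancel (Multiplicative.ofAdd x))
        rwa [map_mul, hx, one_mul, map_one, ← ofAdd_neg] at this
    letI := h.toAlgebra
    let L : MonoidAlgebra k (Multiplicative M) →ₐ[k] T := MonoidAlgebra.lift k T (Multiplicative M) χ
    have hL : I.map (mp ψ) ≤ RingHom.ker L.toRingHom := by
      rw [Ideal.map_le_iff_le_comap]
      have : L.toRingHom.comp (mp ψ) = ev (h.comp ψ) χ := by
        refine MonoidAlgebra.ringHom_ext (fun r => ?_) fun m => ?_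
        · simp [L, mp_single, ev_single, Algebra.smul_def, RingHom.algebraMap_toAlgebra]
        · simp [L, mp_single, ev_single]
      intro x hx
      rw [Ideal.mem_comap, RingHom.mem_ker, ← RingHom.comp_apply, this]
      exact hχ hx
    refine MonoidHom.ext fun m => ?_
    have := congrArg (Ideal.Quotient.liftₐ (I.map (mp ψ)) L hL) (hu (Multiplicative.toAdd m))
    rw [map_one] at this
    refine Eq.trans ?_ this
    show χ m = L (MonoidAlgebra.single m 1)
    simp [L]

end Groth.Agent.MonoLocus
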